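import Mathlib

/-!
An automorphism of odd prime order of an elementary abelian group whose second-order commutator
identity holds is unipotent.
-/

set_option autoImplicit false

namespace ExtraEigen5877

/-- Either some element has a non-trivial fixed commutator and the two primes agree, or the map is trivial. -/
theorem chain {M : Type*} [CommGroup M] (τ : M →* M) {r ϖ : ℕ} (hr : r.Prime) (hϖ : ϖ.Prime) (hodd : Odd ϖ)
    (hexp : ∀ a : M, a ^ r = 1) (hτ : ∀ a, τ^[ϖ] a = a)
    (hkey : ∀ a : M, τ (τ (τ (τ a / a)) / (τ a / a)) = τ (τ (τ a / a)) / (τ a / a)) :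
    (∀ a, τ a = a) ∨ (r = ϖ ∧ ∃ a, τ a ≠ a ∧ τ (τ a / a) = τ a / a) := by
  -- four commutators vanish
  have hinv : ∀ a, τ (τ (τ (τ a / a) / (τ a / a)) / (τ (τ a / a) / (τ a / a))) =
      (τ (τ (τ a / a) / (τ a / a)) / (τ (τ a / a) / (τ a / a)))⁻¹ := by
    intro a
    have h := hkey a
    set z := τ a / a
    simp only [map_div] at h ⊢
    rw [div_eq_iff_eq_mul] at h
    rw [h]
    simp only [div_eq_mul_inv, mul_inv_rev, inv_inv]
    have e : ∀ p q s : M, p * q⁻¹ * s * (q * q⁻¹) = p * q⁻¹ * s := fun p q s => by simp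
    simp [mul_comm, mul_left_comm, mul_assoc]
  have h4 : ∀ a, τ (τ (τ (τ a / a) / (τ a / a)) / (τ (τ a / a) / (τ a / a))) =
      τ (τ (τ a / a) / (τ a / a)) / (τ (τ a / a) / (τ a / a)) := by
    intro a
    set t := τ (τ (τ a / a) / (τ a / a)) / (τ (τ a / a) / (τ a / a)) with htdef
    have ht : τ t = t⁻¹ := hinv a
    have hpow : ∀ i, τ^[i] t = if Even i then t else t⁻¹ := by
      intro i
      induction i with
      | zero => simp
      | succ i ih =>
        rw [Function.iterate_succ_apply', ih]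
        rcases Nat.even_or_odd i with h | h
        · rw [if_pos h, if_neg (Nat.not_even_iff_odd.2 h.add_one), ht]
        · rw [if_neg (Nat.not_even_iff_odd.2 h), if_pos h.add_one, map_inv, ht, inv_inv]
    have h2 : t⁻¹ = t := by
      have := hpow ϖ
      rwa [hτ, if_neg (Nat.not_even_iff_odd.2 hodd), eq_comm] at this
    rw [ht, h2]
  by_cases hid : ∀ a, τ a = a
  · exact Or.inl hid
  push Not at hid
  obtain ⟨a, ha⟩ := hid
  have hsel : ∃ a, τ a ≠ a ∧ τ (τ a / a) = τ a / a := by
    by_cases h1 : τ (τ a / a) = τ a / a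
    · exact ⟨a, ha, h1⟩
    by_cases h2 : τ (τ (τ a / a) / (τ a / a)) = τ (τ a / a) / (τ a / a)
    · exact ⟨_, h1, h2⟩
    exact ⟨_, h2, h4 a⟩
  refine Or.inr ⟨?_, hsel⟩
  obtain ⟨b, hb, hbb⟩ := hsel
  set d := τ b / b with hd
  have hit : ∀ i, τ^[i] b = b * d ^ i := by
    intro i
    induction i with
    | zero => simp
    | succ i ih =>
      rw [Function.iterate_succ_apply', ih, map_mul, map_pow, hbb, pow_succ', ← mul_assoc, hd,
        mul_div_cancel]
  have h1 : d ^ ϖ = 1 := by
    have := hit ϖ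
    rwa [hτ, left_eq_mul] at this
  have hd1 : d ≠ 1 := fun e => hb (div_eq_one.1 (hd ▸ e))
  haveI := Fact.mk hr
  haveI := Fact.mk hϖ
  exact (orderOf_eq_prime (hexp d) hd1).symm.trans (orderOf_eq_prime h1 hd1)

end ExtraEigen5877
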