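import Mathlib

/-!
Linear algebra for a pair of invertible operators with scalar commutator.
-/

set_option autoImplicit false

namespace ExtraEigen5877

open Module

variable {F : Type*} [Field F] {V : Type*} [AddCommGroup V] [Module F V] [FiniteDimensional F V]

lemma two_mul_le_add_inf (W : Submodule F V) (x : V ≃ₗ[F] V) :
    2 * finrank F W ≤ finrank F V + finrank F ↥(W ⊓ W.map x.toLinearMap) := by
  have h := Submodule.finrank_sup_add_finrank_inf_eq W (W.map x.toLinearMap)
  rw [LinearEquiv.finrank_map_eq] at h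
  have := Submodule.finrank_le (W ⊔ W.map x.toLinearMap)
  omega

/-- an independent family inside `S` -/
lemma sum_finrank_le {ι : Type*} [Fintype ι] {p : ι → Submodule F V} {S : Submodule F V} (hp : iSupIndep p)
    (hle : ∀ i, p i ≤ S) : ∑ i, finrank F ↥(p i) ≤ finrank F S := by
  classical
  have key : ∀ s : Finset ι, ∑ i ∈ s, finrank F ↥(p i) = finrank F ↥(s.sup p) := by
    intro s
    induction s using Finset.induction_on with
    | empty => rw [Finset.sum_empty, Finset.sup_empty, finrank_bot]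
    | insert a s ha ih =>
      rw [Finset.sum_insert ha, Finset.sup_insert, ih, ← Submodule.finrank_sup_add_finrank_inf_eq]
      have hd : Disjoint (p a) (s.sup p) :=
        (iSupIndep_iff_supIndep.1 hp (insert a s)) (Finset.subset_insert a s) (Finset.mem_insert_self a s) ha
      rw [hd.eq_bot, finrank_bot, add_zero]
  rw [key]
  exact Submodule.finrank_mono (Finset.sup_le fun i _ => hle i)

/-- distinct translates of an eigenvalue -/
lemma mul_finrank_eigen_le (y : Module.End F V) (x : V ≃ₗ[F] V) {ζ : F} {r : ℕ} (hζ : orderOf ζ = r) (hr : 0 < r)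
    (hxy : ∀ v, y (x v) = ζ • x (y v)) (μ : F) (hμ : μ ≠ 0) :
    r * finrank F ↥(y.eigenspace μ) ≤ finrank F V ∧
      ∀ i, finrank F ↥(y.eigenspace (μ * ζ ^ i)) = finrank F ↥(y.eigenspace μ) := by
  have hζ0 : ζ ≠ 0 := fun e => by
    have h := pow_orderOf_eq_one ζ
    rw [hζ, e, zero_pow hr.ne'] at h
    exact zero_ne_one h
  have hmap : ∀ ν, (y.eigenspace ν).map x.toLinearMap = y.eigenspace (ν * ζ) := by
    intro ν
    ext v
    simp only [Submodule.mem_map, Module.End.mem_eigenspace_iff, LinearEquiv.coe_coe]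
    constructor
    · rintro ⟨u, hu, rfl⟩
      rw [hxy, hu, map_smul, smul_smul, mul_comm]
    · intro hv
      refine ⟨x.symm v, x.injective ?_, x.apply_symm_apply v⟩
      have h := hxy (x.symm v)
      rw [x.apply_symm_apply, hv, mul_comm ν, ← smul_smul] at h
      rw [map_smul, x.apply_symm_apply]
      exact (smul_right_injective V hζ0 h).symm
  have heq : ∀ i, finrank F ↥(y.eigenspace (μ * ζ ^ i)) = finrank F ↥(y.eigenspace μ) := by
    intro i
    induction i with
    | zero => rw [pow_zero, mul_one]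
    | succ i ih => rw [pow_succ, ← mul_assoc, ← hmap, LinearEquiv.finrank_map_eq, ih]
  refine ⟨?_, heq⟩
  have hinj : Function.Injective fun i : Fin r => μ * ζ ^ (i : ℕ) := fun i j h => by
    have h' := pow_injOn_Iio_orderOf (x := ζ) (by rw [Set.mem_Iio, hζ]; exact i.2)
      (by rw [Set.mem_Iio, hζ]; exact j.2) (mul_left_cancel₀ hμ h)
    exact Fin.ext h'
  have hsum := sum_finrank_le (S := (⊤ : Submodule F V)) ((Module.End.eigenspaces_iSupIndep y).comp hinj)
    (fun _ => le_top)
  rw [finrank_top] at hsum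
  simp only [Function.comp_apply] at hsum
  simp only [heq, Finset.sum_const, Finset.card_univ, Fintype.card_fin, smul_eq_mul] at hsum
  exact hsum

/-- eigenspaces of `y` span an invariant subspace when `y ^ r = 1` -/
lemma finrank_le_sum_eigen (y : Module.End F V) {ζ : F} {r : ℕ} (hζ : orderOf ζ = r) (hr : 1 < r)
    (hy : y ^ r = 1) (W : Submodule F V) (hW : ∀ v ∈ W, y v ∈ W) :
    finrank F W ≤ ∑ i ∈ Finset.range r, finrank F ↥(W ⊓ y.eigenspace (ζ ^ i)) := by
  classical
  have hζr : ζ ^ r = 1 := hζ ▸ pow_orderOf_eq_one ζ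
  have hr0 : (r : F) ≠ 0 := by
    have hprim : IsPrimitiveRoot ζ r := IsPrimitiveRoot.iff_orderOf.2 hζ
    haveI : NeZero r := ⟨by omega⟩
    exact (IsPrimitiveRoot.neZero' hprim).ne
  have hWp : ∀ (j : ℕ), ∀ v ∈ W, (y ^ j) v ∈ W := by
    intro j
    induction j with
    | zero => simp
    | succ j ih => intro v hv; rw [pow_succ', Module.End.mul_apply]; exact hW _ (ih v hv)
  have hle : W ≤ (Finset.range r).sup fun i => W ⊓ y.eigenspace (ζ ^ i) := by
    intro v hv
    -- the projections
    let e : ℕ → V := fun i => ∑ j ∈ Finset.range r, ((ζ ^ i) ^ (r - j)) • (y ^ j) v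
    have he : ∀ i, e i ∈ W ⊓ y.eigenspace (ζ ^ i) := by
      intro i
      refine ⟨Submodule.sum_mem _ fun j _ => Submodule.smul_mem _ _ (hWp j v hv), ?_⟩
      rw [SetLike.mem_coe, Module.End.mem_eigenspace_iff]
      simp only [e, map_sum, map_smul, Finset.smul_sum, smul_smul]
      have hr1 : (ζ ^ i) ^ r = 1 := by rw [← pow_mul, mul_comm, pow_mul, hζr, one_pow]
      obtain ⟨m, rfl⟩ : ∃ m, r = m + 1 := ⟨r - 1, by omega⟩
      rw [Finset.sum_range_succ, Finset.sum_range_succ' (fun j => (ζ ^ i * (ζ ^ i) ^ (m + 1 - j)) • (y ^ j) v)]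
      congr 1
      · refine Finset.sum_congr rfl fun j hj => ?_
        rw [Finset.mem_range] at hj
        rw [show m + 1 - j = (m + 1 - (j + 1)) + 1 by omega, pow_succ', pow_succ' y, Module.End.mul_apply]
      · rw [Nat.sub_zero, hr1, mul_one, show m + 1 - m = 1 by omega, pow_one, pow_zero,
          Module.End.one_apply, ← Module.End.mul_apply, ← pow_succ', hy, Module.End.one_apply]
    have hsum : ∑ i ∈ Finset.range r, e i = (r : F) • v := by
      simp only [e]
      rw [Finset.sum_comm, Finset.sum_eq_single 0]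
      · have h1 : ∀ i ∈ Finset.range r, ((ζ ^ i) ^ (r - 0)) • (y ^ 0) v = v := fun i _ => by
          rw [Nat.sub_zero, ← pow_mul, mul_comm, pow_mul, hζr, one_pow, one_smul, pow_zero, Module.End.one_apply]
        rw [Finset.sum_congr rfl h1, Finset.sum_const, Finset.card_range, ← Nat.cast_smul_eq_nsmul F]
      · intro j hj hj0
        rw [← Finset.sum_smul]
        rw [Finset.mem_range] at hj
        have hne : ζ ^ (r - j) ≠ 1 := pow_ne_one_of_lt_orderOf (by omega) (by rw [hζ]; omega)
        have hg := geom_sum_mul (ζ ^ (r - j)) r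
        rw [← pow_mul, mul_comm (r - j) r, pow_mul, hζr, one_pow, sub_self, mul_eq_zero] at hg
        rw [Finset.sum_congr rfl fun i _ => (by rw [← pow_mul, mul_comm, pow_mul] :
          (ζ ^ i) ^ (r - j) = (ζ ^ (r - j)) ^ i), hg.resolve_right (sub_ne_zero.2 hne), zero_smul]
      · intro h
        exact absurd (Finset.mem_range.2 (by omega)) h
    rw [← inv_smul_smul₀ hr0 v, ← hsum]
    exact Submodule.smul_mem _ _ (Submodule.sum_mem _ fun i hi =>
      Finset.le_sup (f := fun i => W ⊓ y.eigenspace (ζ ^ i)) hi (he i))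
  refine (Submodule.finrank_mono hle).trans ?_
  induction (Finset.range r) using Finset.induction_on with
  | empty => simp
  | insert a s ha ih =>
    rw [Finset.sum_insert ha, Finset.sup_insert]
    exact (Submodule.finrank_add_le_finrank_add_finrank _ _).trans (Nat.add_le_add_left ih _)

/-- a weighting of an odd path with one chord -/
lemma path_sum_le (u : ℕ → ℕ) (d : ℕ) {r : ℕ} (hodd : Odd r) (hr : 5 ≤ r)
    (h1 : ∀ i, i + 1 < r → u i + u (i + 1) ≤ d) (h2 : u 0 + u 2 ≤ d ∨ u 2 + u 4 ≤ d) :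
    2 * ∑ i ∈ Finset.range r, u i ≤ r * d := by
  have hseg : ∀ k a, a + 2 * k ≤ r → ∑ i ∈ Finset.range (2 * k), u (a + i) ≤ k * d := by
    intro k
    induction k with
    | zero => simp
    | succ k ih =>
      intro a ha
      rw [show 2 * (k + 1) = 2 * k + 1 + 1 by ring, Finset.sum_range_succ, Finset.sum_range_succ, add_mul, one_mul]
      have := h1 (a + 2 * k) (by omega)
      have := ih a (by omega)
      rw [show a + (2 * k + 1) = a + 2 * k + 1 by ring]
      omega
  obtain ⟨m, rfl⟩ := hodd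
  obtain ⟨k, rfl⟩ : ∃ k, m = k + 2 := ⟨m - 2, by omega⟩
  rcases h2 with h2 | h2
  · have e := Finset.sum_range_add u 3 (2 * (k + 1))
    rw [show 2 * (k + 2) + 1 = 3 + 2 * (k + 1) by ring, e]
    have := hseg (k + 1) 3 (by omega)
    have e01 : u 0 + u 1 ≤ d := h1 0 (by omega)
    have e12 : u 1 + u 2 ≤ d := h1 1 (by omega)
    rw [show ∑ i ∈ Finset.range 3, u i = u 0 + u 1 + u 2 by simp [Finset.sum_range_succ]]
    rw [show (3 + 2 * (k + 1)) * d = 3 * d + 2 * ((k + 1) * d) by ring]
    omega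
  · have e := Finset.sum_range_add u 5 (2 * k)
    rw [show 2 * (k + 2) + 1 = 5 + 2 * k by ring, e]
    have := hseg k 5 (by omega)
    have e01 : u 0 + u 1 ≤ d := h1 0 (by omega)
    have e23 : u 2 + u 3 ≤ d := h1 2 (by omega)
    have e34 : u 3 + u 4 ≤ d := h1 3 (by omega)
    rw [show ∑ i ∈ Finset.range 5, u i = u 0 + u 1 + u 2 + u 3 + u 4 by simp [Finset.sum_range_succ]]
    rw [show (5 + 2 * k) * d = 5 * d + 2 * (k * d) by ring]
    omega

/-- the case of a commuting commutator -/
theorem bound_commuting (g h : Module.End F V) (x : V ≃ₗ[F] V) {ζ lam c : F} {r : ℕ} (hζ : orderOf ζ = r)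
    (hodd : Odd r) (hr : 5 ≤ r) (hlam : lam ≠ 0) (y : Module.End F V) (hy : y ^ r = 1) (hhy : h = lam • y)
    (hxy : ∀ v, y (x v) = ζ • x (y v)) (hgh : ∀ v, g (h v) = h (g v)) (hgx : ∀ v, g (x v) = h (x (g v)))
    (hc : c ≠ 0) : 2 * finrank F ↥(g.eigenspace c) ≤ finrank F V := by
  classical
  set W := g.eigenspace c with hWdef
  have hζr : ζ ^ r = 1 := hζ ▸ pow_orderOf_eq_one ζ
  have hζ0 : ζ ≠ 0 := fun e => by
    rw [e, zero_pow (by omega)] at hζr
    exact zero_ne_one hζr
  -- a good origin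
  obtain ⟨ν, hν, hν0, hgood⟩ : ∃ ν : F, ν ^ r = 1 ∧ ν ≠ 0 ∧ ∀ i, i + 1 < r → lam * (ν * ζ ^ (i + 1)) ≠ 1 := by
    by_cases h1 : ∃ i, lam * ζ ^ i = 1
    · obtain ⟨i, hi⟩ := h1
      refine ⟨ζ ^ i, by rw [← pow_mul, mul_comm, pow_mul, hζr, one_pow], pow_ne_zero _ hζ0, fun j hj he => ?_⟩
      rw [← mul_assoc, hi, one_mul] at he
      exact pow_ne_one_of_lt_orderOf (Nat.succ_ne_zero j) (by rw [hζ]; exact hj) he
    · push Not at h1
      exact ⟨1, one_pow r, one_ne_zero, fun j _ => by rw [one_mul]; exact h1 _⟩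
  obtain ⟨hrd, hdeq⟩ := mul_finrank_eigen_le y x hζ (by omega) hxy ν hν0
  set d := finrank F ↥(y.eigenspace ν)
  let u : ℕ → ℕ := fun i => finrank F ↥(W ⊓ y.eigenspace (ν * ζ ^ i))
  have hWy : ∀ v ∈ W, y v ∈ W := by
    intro v hv
    rw [Module.End.mem_eigenspace_iff] at hv ⊢
    have := hgh v
    rw [hhy, LinearMap.smul_apply, LinearMap.smul_apply, map_smul, hv, map_smul] at this
    exact smul_right_injective V hlam this
  have hW : finrank F W ≤ ∑ i ∈ Finset.range r, u i := by
    refine (finrank_le_sum_eigen y hζ (by omega) hy W hWy).trans (le_of_eq ?_)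
    haveI : NeZero r := ⟨by omega⟩
    obtain ⟨k, hk, rfl⟩ := (IsPrimitiveRoot.iff_orderOf.2 hζ).eq_pow_of_pow_eq_one hν
    refine (Finset.sum_bij (fun i _ => (i + (r - k)) % r) (fun i _ => Finset.mem_range.2 (Nat.mod_lt _ (by omega)))
      (fun i hi j hj hij => ?_) (fun j hj => ?_) (fun i hi => ?_))
    · rw [Finset.mem_range] at hi hj
      have h : ((i : ℕ) + (r - k)) % r = (j + (r - k)) % r := hij
      have := Nat.ModEq.add_right_cancel' (r - k) h
      rwa [Nat.ModEq, Nat.mod_eq_of_lt hi, Nat.mod_eq_of_lt hj] at this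
    · rw [Finset.mem_range] at hj
      refine ⟨(j + k) % r, Finset.mem_range.2 (Nat.mod_lt _ (by omega)), ?_⟩
      rw [Nat.mod_add_mod, show j + k + (r - k) = j + r by omega, Nat.add_mod_right, Nat.mod_eq_of_lt hj]
    · show _ = finrank F ↥(W ⊓ y.eigenspace (ζ ^ k * ζ ^ ((i + (r - k)) % r)))
      rw [← pow_add]
      have : ζ ^ (k + (i + (r - k)) % r) = ζ ^ i := by
        rw [← pow_mod_orderOf, hζ, Nat.add_mod_mod, show k + (i + (r - k)) = i + r by omega, Nat.add_mod_right,
          ← hζ, pow_mod_orderOf]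
      rw [this]
  have hstep : ∀ (z : V ≃ₗ[F] V) (i j : ℕ),
      (∀ v ∈ W ⊓ y.eigenspace (ν * ζ ^ i), z v ∈ W → v = 0) →
      (∀ v ∈ y.eigenspace (ν * ζ ^ i), z v ∈ y.eigenspace (ν * ζ ^ j)) → u i + u j ≤ d := by
    intro z i j hz hz'
    have hdis : (W ⊓ y.eigenspace (ν * ζ ^ i)).map z.toLinearMap ⊓ (W ⊓ y.eigenspace (ν * ζ ^ j)) = ⊥ := by
      rw [eq_bot_iff]
      rintro _ ⟨⟨v, hv, rfl⟩, hvW, -⟩
      rw [hz v hv hvW, map_zero]
      exact Submodule.zero_mem _
    have h := Submodule.finrank_sup_add_finrank_inf_eq ((W ⊓ y.eigenspace (ν * ζ ^ i)).map z.toLinearMap)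
      (W ⊓ y.eigenspace (ν * ζ ^ j))
    rw [hdis, finrank_bot, add_zero, LinearEquiv.finrank_map_eq] at h
    rw [show u i + u j = _ from h.symm, ← hdeq j]
    refine Submodule.finrank_mono (sup_le ?_ inf_le_right)
    rintro _ ⟨v, hv, rfl⟩
    exact hz' v hv.2
  have hxS : ∀ i, ∀ v ∈ y.eigenspace (ν * ζ ^ i), x v ∈ y.eigenspace (ν * ζ ^ (i + 1)) := by
    intro i v hv
    rw [Module.End.mem_eigenspace_iff] at hv ⊢
    rw [hxy, hv, map_smul, smul_smul, pow_succ]
    ring_nf
  have hgxv : ∀ i, ∀ v ∈ y.eigenspace (ν * ζ ^ i), g v = c • v →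
      g (x v) = (c * (lam * (ν * ζ ^ (i + 1)))) • x v := by
    intro i v hv hgv
    rw [hgx, hgv, map_smul, map_smul, hhy, LinearMap.smul_apply,
      Module.End.mem_eigenspace_iff.1 (hxS i v hv), smul_smul, smul_smul]
    ring_nf
  have h1 : ∀ i, i + 1 < r → u i + u (i + 1) ≤ d := by
    intro i hi
    refine hstep x i (i + 1) (fun v hv hxv => ?_) (hxS i)
    by_contra hv0
    have h := hgxv i v hv.2 (Module.End.mem_eigenspace_iff.1 hv.1)
    rw [Module.End.mem_eigenspace_iff.1 hxv] at h
    have := smul_left_injective F (fun e => hv0 (x.map_eq_zero_iff.1 e)) h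
    exact hgood i hi ((mul_eq_left₀ hc).1 this.symm)
  have h2 : u 0 + u 2 ≤ d ∨ u 2 + u 4 ≤ d := by
    by_cases hA : lam * (ν * ζ ^ 1) * (lam * (ν * ζ ^ 2)) = 1
    · right
      refine hstep (x.trans x) 2 4 (fun v hv hxv => ?_) (fun v hv => hxS 3 _ (hxS 2 v hv))
      by_contra hv0
      have h := hgxv 2 v hv.2 (Module.End.mem_eigenspace_iff.1 hv.1)
      have hh : g (x (x v)) = (c * (lam * (ν * ζ ^ (2 + 1)) * (lam * (ν * ζ ^ (3 + 1))))) • x (x v) := by
        rw [hgx, h, map_smul, map_smul, hhy, LinearMap.smul_apply,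
          Module.End.mem_eigenspace_iff.1 (hxS 3 _ (hxS 2 v hv.2)), smul_smul, smul_smul]
        ring_nf
      have hxv' : g (x (x v)) = c • x (x v) := Module.End.mem_eigenspace_iff.1 hxv
      rw [hxv'] at hh
      have := smul_left_injective F (fun e => hv0 (x.map_eq_zero_iff.1 (x.map_eq_zero_iff.1 e))) hh
      have hB := (mul_eq_left₀ hc).1 this.symm
      have h4 : ζ ^ 4 = 1 := by linear_combination hB - (ζ ^ 4) * hA
      exact pow_ne_one_of_lt_orderOf (by norm_num) (by rw [hζ]; omega) h4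
    · left
      refine hstep (x.trans x) 0 2 (fun v hv hxv => ?_) (fun v hv => hxS 1 _ (hxS 0 v hv))
      by_contra hv0
      have h := hgxv 0 v hv.2 (Module.End.mem_eigenspace_iff.1 hv.1)
      have hh : g (x (x v)) = (c * (lam * (ν * ζ ^ (0 + 1)) * (lam * (ν * ζ ^ (1 + 1))))) • x (x v) := by
        rw [hgx, h, map_smul, map_smul, hhy, LinearMap.smul_apply,
          Module.End.mem_eigenspace_iff.1 (hxS 1 _ (hxS 0 v hv.2)), smul_smul, smul_smul]
        ring_nf
      have hxv' : g (x (x v)) = c • x (x v) := Module.End.mem_eigenspace_iff.1 hxv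
      rw [hxv'] at hh
      have := smul_left_injective F (fun e => hv0 (x.map_eq_zero_iff.1 (x.map_eq_zero_iff.1 e))) hh
      exact hA ((mul_eq_left₀ hc).1 this.symm)
  calc 2 * finrank F W ≤ 2 * ∑ i ∈ Finset.range r, u i := Nat.mul_le_mul_left 2 hW
    _ ≤ r * d := path_sum_le u d hodd hr h1 h2
    _ ≤ finrank F V := hrd

/-- the case where the translating element commutes with its commutator -/
theorem bound_stable (g h : Module.End F V) (u : V ≃ₗ[F] V) (x : V ≃ₗ[F] V) {ζ lam c : F} {r : ℕ} (hζ : orderOf ζ = r)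
    (hr : 4 ≤ r) (hrp : r.Prime) (y : Module.End F V) (hy : y ^ r = 1) (hlam : lam ≠ 0) (hhy : h = lam • y)
    (hxy : ∀ v, y (x v) = ζ • x (y v)) (hgh : ∀ v, g (h v) = h (g v)) (hhu : ∀ v, h (u v) = u (h v))
    (hgu : ∀ v, g (u v) = h (u (g v))) (hur : ∀ v, g ((u.toLinearMap ^ r) v) = (u.toLinearMap ^ r) (g v))
    (hc : c ≠ 0) : 2 * finrank F ↥(g.eigenspace c) ≤ finrank F V := by
  classical
  set W := g.eigenspace c with hWdef
  obtain ⟨hrd, hdeq⟩ := mul_finrank_eigen_le y x hζ (by omega) hxy 1 one_ne_zero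
  replace hdeq : ∀ i, finrank F ↥(y.eigenspace (ζ ^ i)) = finrank F ↥(y.eigenspace 1) := fun i =>
    (congrArg (fun a : F => finrank F ↥(y.eigenspace a)) (one_mul (ζ ^ i))).symm.trans (hdeq i)
  set d := finrank F ↥(y.eigenspace 1)
  have hWy : ∀ v ∈ W, y v ∈ W := by
    intro v hv
    rw [Module.End.mem_eigenspace_iff] at hv ⊢
    have := hgh v
    rw [hhy, LinearMap.smul_apply, LinearMap.smul_apply, map_smul, hv, map_smul] at this
    exact smul_right_injective V hlam this
  have hW := finrank_le_sum_eigen y hζ (by omega) hy W hWy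
  -- away from the eigenvalue one
  have hsmall : ∀ i, lam * ζ ^ i ≠ 1 → r * finrank F ↥(W ⊓ y.eigenspace (ζ ^ i)) ≤ d := by
    intro i hi
    set μ := lam * ζ ^ i with hμdef
    set T := W ⊓ y.eigenspace (ζ ^ i)
    rcases eq_or_ne T ⊥ with hT | hT
    · rw [hT, finrank_bot, mul_zero]; exact Nat.zero_le _
    have hk : ∀ (k : ℕ), ∀ v ∈ T, g ((u.toLinearMap ^ k) v) = (c * μ ^ k) • (u.toLinearMap ^ k) v ∧
        y ((u.toLinearMap ^ k) v) = ζ ^ i • (u.toLinearMap ^ k) v := by
      intro k
      induction k with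
      | zero =>
        intro v hv
        simp only [pow_zero, Module.End.one_apply, mul_one]
        exact ⟨Module.End.mem_eigenspace_iff.1 hv.1, Module.End.mem_eigenspace_iff.1 hv.2⟩
      | succ k ih =>
        intro v hv
        obtain ⟨e1, e2⟩ := ih v hv
        set w := (u.toLinearMap ^ k) v
        have e3 : (u.toLinearMap ^ (k + 1)) v = u w := by rw [pow_succ', Module.End.mul_apply]; rfl
        have e4 : y (u w) = ζ ^ i • u w := by
          have := hhu w
          rw [hhy, LinearMap.smul_apply, LinearMap.smul_apply, e2, map_smul, map_smul] at this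
          exact smul_right_injective V hlam this
        rw [e3]
        refine ⟨?_, e4⟩
        rw [hgu, e1, map_smul, map_smul, hhy, LinearMap.smul_apply, e4, smul_smul, smul_smul]
        congr 1
        rw [hμdef, pow_succ]
        ring
    have hμr : μ ^ r = 1 := by
      obtain ⟨v, hv, hv0⟩ := Submodule.exists_mem_ne_zero_of_ne_bot hT
      have h1 := (hk r v hv).1
      rw [hur, Module.End.mem_eigenspace_iff.1 hv.1, map_smul] at h1
      have hne : (u.toLinearMap ^ r) v ≠ 0 := fun e => hv0 (by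
        have hinj : Function.Injective (⇑(u.toLinearMap ^ r)) := by
          rw [Module.End.coe_pow]
          exact u.injective.iterate r
        exact hinj (e.trans (map_zero _).symm))
      exact ((mul_eq_left₀ hc).1 (smul_left_injective F hne h1).symm)
    haveI := Fact.mk hrp
    have hμo : orderOf μ = r := orderOf_eq_prime hμr hi
    have hinj : Function.Injective fun k : Fin r => c * μ ^ (k : ℕ) := fun k l hkl => Fin.ext (pow_injOn_Iio_orderOf
      (x := μ) (by rw [Set.mem_Iio, hμo]; exact k.2) (by rw [Set.mem_Iio, hμo]; exact l.2) (mul_left_cancel₀ hc hkl))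
    let q : Fin r → Submodule F V := fun k => T.map (u.toLinearMap ^ (k : ℕ))
    have hind : iSupIndep q := ((Module.End.eigenspaces_iSupIndep g).comp hinj).mono (by
      rintro k _ ⟨v, hv, rfl⟩
      exact Module.End.mem_eigenspace_iff.2 (hk k v hv).1)
    have h := sum_finrank_le (S := y.eigenspace (ζ ^ i)) hind (by
      rintro k _ ⟨v, hv, rfl⟩
      exact Module.End.mem_eigenspace_iff.2 (hk k v hv).2)
    have he : ∀ k, finrank F ↥(q k) = finrank F T := fun k => by
      refine (Submodule.equivMapOfInjective _ ?_ T).finrank_eq.symm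
      rw [Module.End.coe_pow]
      exact u.injective.iterate k
    simp only [he, Finset.sum_const, Finset.card_univ, Fintype.card_fin, smul_eq_mul, hdeq] at h
    exact h
  have hlast : r * ∑ i ∈ Finset.range r, finrank F ↥(W ⊓ y.eigenspace (ζ ^ i)) ≤ (2 * r - 1) * d := by
    rw [Finset.mul_sum]
    by_cases hex : ∃ i ∈ Finset.range r, lam * ζ ^ i = 1
    · obtain ⟨i, hi, hi1⟩ := hex
      rw [← Finset.add_sum_erase _ _ hi]
      have h1 : r * finrank F ↥(W ⊓ y.eigenspace (ζ ^ i)) ≤ r * d :=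
        Nat.mul_le_mul_left r ((Submodule.finrank_mono inf_le_right).trans (hdeq i).le)
      have h2 : ∑ j ∈ (Finset.range r).erase i, r * finrank F ↥(W ⊓ y.eigenspace (ζ ^ j)) ≤ (r - 1) * d := by
        refine (Finset.sum_le_card_nsmul _ _ d fun j hj => hsmall j fun hj1 => ?_).trans
          (by rw [Finset.card_erase_of_mem hi, Finset.card_range, smul_eq_mul])
        obtain ⟨hne, hj'⟩ := Finset.mem_erase.1 hj
        rw [Finset.mem_range] at hi hj'
        rw [← hi1] at hj1
        exact hne (pow_injOn_Iio_orderOf (x := ζ) (by rw [Set.mem_Iio, hζ]; exact hj') (by rw [Set.mem_Iio, hζ]; exact hi)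
          (mul_left_cancel₀ hlam hj1))
      calc r * finrank F ↥(W ⊓ y.eigenspace (ζ ^ i))
            + ∑ j ∈ (Finset.range r).erase i, r * finrank F ↥(W ⊓ y.eigenspace (ζ ^ j))
          ≤ r * d + (r - 1) * d := Nat.add_le_add h1 h2
        _ = (2 * r - 1) * d := by rw [← add_mul]; congr 1; omega
    · push Not at hex
      refine (Finset.sum_le_card_nsmul _ _ d fun j hj => hsmall j (hex j hj)).trans ?_
      rw [Finset.card_range, smul_eq_mul]
      exact Nat.mul_le_mul_right d (by omega)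
  refine Nat.le_of_mul_le_mul_left ?_ (by omega : 0 < r)
  calc r * (2 * finrank F W) = 2 * (r * finrank F W) := by ring
    _ ≤ 2 * ((2 * r - 1) * d) := Nat.mul_le_mul_left 2 ((Nat.mul_le_mul_left r hW).trans hlast)
    _ = 2 * (2 * r - 1) * d := by ring
    _ ≤ r * r * d := Nat.mul_le_mul_right d (by have := Nat.mul_le_mul_right r hr; omega)
    _ ≤ r * finrank F V := by rw [mul_assoc]; exact Nat.mul_le_mul_left r hrd

end ExtraEigen5877
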