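import Mathlib
import Cfsg.Prelude.Def_GeometricClasses
import Cfsg.Agent.ExtraEigen.Chain
import Cfsg.Agent.ExtraEigen.Eigen

/-!
Eigenspaces of elements normalising an absolutely irreducible extraspecial group.
-/

set_option autoImplicit false

namespace ExtraEigen5877

open Module Cfsg.Geo
open scoped commutatorElement

variable {F : Type*} [Field F] {n : ℕ}

local notation "GLn" => GL (Fin n) F

/-- the action on column vectors -/
noncomputable def act : GL (Fin n) F →* Module.End F (Fin n → F) :=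
  Matrix.toLinAlgEquiv'.toMonoidHom.comp (Units.coeHom _)

lemma act_apply (a : GLn) (v : Fin n → F) : act a v = (a : Matrix (Fin n) (Fin n) F).mulVec v := rfl

lemma act_mul_apply (a b : GLn) (v : Fin n → F) : act (a * b) v = act a (act b v) := by
  rw [map_mul]; rfl

/-- the same as an equivalence -/
noncomputable def actEquiv (a : GLn) : (Fin n → F) ≃ₗ[F] (Fin n → F) where
  __ := act a
  invFun := act a⁻¹
  left_inv v := by
    show act a⁻¹ (act a v) = v
    rw [← act_mul_apply, inv_mul_cancel, map_one]; rfl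
  right_inv v := by
    show act a (act a⁻¹ v) = v
    rw [← act_mul_apply, mul_inv_cancel, map_one]; rfl

lemma actEquiv_apply (a : GLn) (v : Fin n → F) : actEquiv a v = act a v := rfl

lemma act_scalar {s : GLn} (hs : s ∈ scalars (Fin n) F) : ∃ l : F, l ≠ 0 ∧ ∀ v, act s v = l • v := by
  obtain ⟨c, hc⟩ := (mem_scalars_iff s).1 hs
  exact ⟨c, c.ne_zero, fun v => by rw [act_apply, hc, Matrix.smul_mulVec, Matrix.one_mulVec]⟩

lemma eq_one_of_act {s : GLn} (h : ∀ v, act s v = v) : s = 1 := by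
  refine Units.ext (Matrix.toLinAlgEquiv'.injective ?_)
  exact (LinearMap.ext h : act s = 1).trans (map_one _).symm

lemma scalar_central {s : GLn} (hs : s ∈ scalars (Fin n) F) (a : GLn) : s * a = a * s := by
  obtain ⟨c, hc⟩ := (mem_scalars_iff s).1 hs
  exact Units.ext (by rw [Units.val_mul, Units.val_mul, hc]; simp)

/-- two vectors fixed by non-commuting elements with scalar commutator vanish -/
lemma eq_zero_of_fixed {a b : GLn} (hs : ⁅a, b⁆ ∈ scalars (Fin n) F) (hne : ⁅a, b⁆ ≠ 1) {v : Fin n → F}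
    (ha : act a v = v) (hb : act b v = v) : v = 0 := by
  obtain ⟨l, hl, hlv⟩ := act_scalar hs
  have h1 : act (a * b) v = act (⁅a, b⁆ * (b * a)) v := by
    congr 2
    rw [commutatorElement_def]; group
  rw [act_mul_apply, hb, ha, act_mul_apply, act_mul_apply, ha, hb, hlv] at h1
  by_contra hv
  refine hne (eq_one_of_act fun w => ?_)
  have hl1 : l = 1 := smul_left_injective F hv (by simpa using h1.symm)
  rw [hlv, hl1, one_smul]

lemma commutator_mul_left {a b c : GLn} (h : ⁅b, c⁆ ∈ scalars (Fin n) F) : ⁅a * b, c⁆ = ⁅b, c⁆ * ⁅a, c⁆ := by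
  rw [show ⁅a * b, c⁆ = a * ⁅b, c⁆ * a⁻¹ * ⁅a, c⁆ by simp only [commutatorElement_def]; group,
    ← scalar_central h a, mul_inv_cancel_right]

lemma commutator_mul_right {a b c : GLn} (h : ⁅a, c⁆ ∈ scalars (Fin n) F) : ⁅a, b * c⁆ = ⁅a, b⁆ * ⁅a, c⁆ := by
  rw [show ⁅a, b * c⁆ = ⁅a, b⁆ * (b * ⁅a, c⁆ * b⁻¹) by simp only [commutatorElement_def]; group,
    ← scalar_central h b, mul_inv_cancel_right]

variable [Finite F] {r ϖ : ℕ} (R : Subgroup (GL (Fin n) F)) (hr : r.Prime) (hR : IsPGroup r R)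
  (hZ : Nat.card (Subgroup.center R) = r) (hext : commutator R = Subgroup.center R)
  (hexp : Monoid.exponent R = r ∨ Monoid.exponent R = 4)
  (hirr : ActsAbsolutelyIrreducibly (matrixSet R))

include hirr in
lemma scalar_of_commutes {a : GLn} (h : ∀ x ∈ R, a * x = x * a) : a ∈ scalars (Fin n) F := by
  obtain ⟨c, hc⟩ := hirr.2 (a : Matrix (Fin n) (Fin n) F) (by
    rintro _ ⟨x, hx, rfl⟩
    simpa using congrArg Units.val (h x hx))
  rw [mem_scalars_iff]
  rcases eq_or_ne c 0 with rfl | h0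
  · refine ⟨1, ?_⟩
    rw [zero_smul] at hc
    have := a.mul_inv
    rw [hc, zero_mul] at this
    rw [hc, Units.val_one, one_smul, ← this]
  · exact ⟨Units.mk0 c h0, hc⟩

include hirr in
lemma center_scalar {z : R} (hz : z ∈ Subgroup.center R) : (z : GLn) ∈ scalars (Fin n) F :=
  scalar_of_commutes R hirr fun x hx => (congrArg Subtype.val (Subgroup.mem_center_iff.1 hz ⟨x, hx⟩)).symm

include hext hirr in
/-- a commutator in the product is the commutator of two elements of `R` -/
lemma exists_comm_eq {a b : GLn} (ha : a ∈ R ⊔ scalars (Fin n) F) (hb : b ∈ R ⊔ scalars (Fin n) F) :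
    ∃ z : R, z ∈ Subgroup.center R ∧ ⁅a, b⁆ = (z : GLn) := by
  rw [← SetLike.mem_coe, Subgroup.mul_normal, Set.mem_mul] at ha hb
  obtain ⟨x, hx, s, hs, rfl⟩ := ha
  obtain ⟨y, hy, t, ht, rfl⟩ := hb
  refine ⟨⁅(⟨x, hx⟩ : R), ⟨y, hy⟩⁆, ?_, ?_⟩
  · rw [← hext, _root_.commutator_def]
    exact Subgroup.commutator_mem_commutator (Subgroup.mem_top _) (Subgroup.mem_top _)
  · show ⁅x * s, y * t⁆ = ⁅x, y⁆
    simp only [commutatorElement_def, mul_inv_rev]
    rw [show x * s * (y * t) * (s⁻¹ * x⁻¹) * (t⁻¹ * y⁻¹) = x * (s * y) * (t * s⁻¹) * (x⁻¹ * t⁻¹) * y⁻¹ by group,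
      scalar_central hs y, scalar_central ht s⁻¹, ← scalar_central (inv_mem ht) x⁻¹,
      show x * (y * s) * (s⁻¹ * t) * (t⁻¹ * x⁻¹) * y⁻¹ = x * y * x⁻¹ * y⁻¹ by group]

include hext hirr in
lemma comm_scalar {a b : GLn} (ha : a ∈ R ⊔ scalars (Fin n) F) (hb : b ∈ R ⊔ scalars (Fin n) F) :
    ⁅a, b⁆ ∈ scalars (Fin n) F := by
  obtain ⟨z, hz, e⟩ := exists_comm_eq R hext hirr ha hb
  exact e ▸ center_scalar R hirr hz

include hirr in
lemma exists_not_commute {y : GLn} (hy : y ∈ R ⊔ scalars (Fin n) F) (hns : y ∉ scalars (Fin n) F) :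
    ∃ x ∈ R, ⁅y, x⁆ ≠ 1 := by
  by_contra h
  push Not at h
  exact hns (scalar_of_commutes R hirr fun x hx => commutatorElement_eq_one_iff_mul_comm.1 (h x hx))

include hZ hext hirr in
/-- `r`-th powers of commutators are trivial -/
lemma comm_pow {a b : GLn} (ha : a ∈ R ⊔ scalars (Fin n) F) (hb : b ∈ R ⊔ scalars (Fin n) F) : ⁅a, b⁆ ^ r = 1 := by
  obtain ⟨z, hz, e⟩ := exists_comm_eq R hext hirr ha hb
  have h := pow_card_eq_one' (x := (⟨z, hz⟩ : Subgroup.center R))
  rw [hZ] at h
  have h' : ((z ^ r : R) : GLn) = ((1 : R) : GLn) := congrArg (fun t : Subgroup.center R => ((t : R) : GLn)) h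
  rw [e, ← SubmonoidClass.coe_pow, h']
  rfl

include hr hZ hext hirr in
/-- a non-trivial commutator is a primitive scalar -/
lemma exists_root {a b : GLn} (ha : a ∈ R ⊔ scalars (Fin n) F) (hb : b ∈ R ⊔ scalars (Fin n) F) (hne : ⁅a, b⁆ ≠ 1) :
    ∃ l : F, orderOf l = r ∧ ∀ v, act a (act b v) = l • act b (act a v) := by
  obtain ⟨l, hl, hlv⟩ := act_scalar (comm_scalar R hext hirr ha hb)
  refine ⟨l, ?_, fun v => ?_⟩
  · have hpow : ∀ (k : ℕ) v, act (⁅a, b⁆ ^ k) v = l ^ k • v := by
      intro k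
      induction k with
      | zero => intro v; rw [pow_zero, map_one, pow_zero, one_smul]; rfl
      | succ k ih => intro v; rw [pow_succ', act_mul_apply, ih, map_smul, hlv, smul_smul, pow_succ]
    rcases Nat.eq_zero_or_pos n with rfl | hn
    · exact absurd (eq_one_of_act fun v => Subsingleton.elim _ _) hne
    have hlr : l ^ r = 1 := by
      have h2 := hpow r 1
      rw [comm_pow R hZ hext hirr ha hb, map_one (act (F := F) (n := n))] at h2
      replace h2 : (1 : Fin n → F) = l ^ r • (1 : Fin n → F) := h2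
      simpa using (congrFun h2 ⟨0, hn⟩).symm
    haveI := Fact.mk hr
    exact orderOf_eq_prime hlr fun e => hne (eq_one_of_act fun v => by rw [hlv, e, one_smul])
  · rw [← act_mul_apply, show a * b = ⁅a, b⁆ * (b * a) by rw [commutatorElement_def]; group, act_mul_apply,
      act_mul_apply, hlv]

include hr hZ hext hirr in
/-- the eigenspaces of a non-central element of the product have dimension at most `n / r` -/
lemma eigen_le {h : GLn} (hh : h ∈ R ⊔ scalars (Fin n) F) (hns : h ∉ scalars (Fin n) F) :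
    r * finrank F ↥((act h).eigenspace 1) ≤ n := by
  obtain ⟨x, hx, hne⟩ := exists_not_commute R hirr hh hns
  have hxN : x ∈ R ⊔ scalars (Fin n) F := Subgroup.mem_sup_left hx
  obtain ⟨l, hlr, hlv⟩ := exists_root R hr hZ hext hirr hh hxN hne
  have := (mul_finrank_eigen_le (act h) (actEquiv x) hlr hr.pos (fun v => hlv v) 1 one_ne_zero).1
  simpa using this

include hr hR hZ hext hexp hirr in
theorem bounds (g : GLn) (hg : g ∈ Subgroup.normalizer ((R ⊔ scalars (Fin n) F : Subgroup GLn) : Set GLn))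
    (hϖ : ϖ.Prime) (hord : orderOf g = ϖ) (hns : g ∉ scalars (Fin n) F) (c : F) :
    2 * r * finrank F ↥((act g).eigenspace c) ≤ (r + 1) * n ∧
      (Odd ϖ → (r ≠ ϖ ∨ 5 ≤ r) → 2 * finrank F ↥((act g).eigenspace c) ≤ n) := by
  classical
  set N := R ⊔ scalars (Fin n) F with hNdef
  set W := (act g).eigenspace c with hWdef
  have hdim : finrank F (Fin n → F) = n := by simp
  have hconj : ∀ x ∈ N, g * x * g⁻¹ ∈ N := fun x hx => (Subgroup.mem_normalizer_iff.1 hg x).1 hx
  have hD : ∀ x ∈ N, ⁅g, x⁆ ∈ N := fun x hx => by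
    rw [commutatorElement_def]; exact mul_mem (hconj x hx) (inv_mem hx)
  rcases eq_or_ne c 0 with rfl | hc
  · have : W = ⊥ := by
      rw [eq_bot_iff]
      intro v hv
      rw [hWdef, Module.End.mem_eigenspace_iff, zero_smul] at hv
      exact (actEquiv g).map_eq_zero_iff.1 hv
    rw [this, finrank_bot]
    simp
  -- intersections with translates
  have hfix : ∀ x : GLn, ∀ v ∈ W ⊓ W.map (actEquiv x).toLinearMap, act g v = c • v ∧ act ⁅g, x⁆ v = v := by
    rintro x v ⟨hv, u, hu, rfl⟩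
    rw [SetLike.mem_coe, hWdef, Module.End.mem_eigenspace_iff] at hv hu
    refine ⟨hv, ?_⟩
    have e : act g (act x u) = act ⁅g, x⁆ (act x (act g u)) := by
      rw [← act_mul_apply, ← act_mul_apply, ← act_mul_apply, show ⁅g, x⁆ * x * g = g * x by
        rw [commutatorElement_def]; group]
    rw [show (actEquiv x).toLinearMap u = act x u from rfl] at hv ⊢
    rw [hv, hu, map_smul, map_smul] at e
    exact (smul_right_injective _ hc e).symm
  -- the first trick
  have case0 : ∀ y ∈ N, ⁅g, y⁆ ∈ scalars (Fin n) F → ⁅g, y⁆ ≠ 1 → 2 * finrank F W ≤ n := by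
    intro y hy hs hne
    have h := two_mul_le_add_inf W (actEquiv y)
    have hb : W ⊓ W.map (actEquiv y).toLinearMap = ⊥ := by
      rw [eq_bot_iff]
      intro v hv
      obtain ⟨-, h1⟩ := hfix y v hv
      obtain ⟨l, hl, hlv⟩ := act_scalar hs
      by_contra hv0
      rw [hlv] at h1
      have hl1 : l = 1 := smul_left_injective F hv0 (by simpa using h1)
      exact hne (eq_one_of_act fun w => by rw [hlv, hl1, one_smul])
    rw [hb, finrank_bot, add_zero, hdim] at h
    exact h
  by_cases hcase0 : ∃ y ∈ N, ⁅g, y⁆ ∈ scalars (Fin n) F ∧ ⁅g, y⁆ ≠ 1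
  · obtain ⟨y, hy, hs, hne⟩ := hcase0
    have h := case0 y hy hs hne
    refine ⟨?_, fun _ _ => h⟩
    calc 2 * r * finrank F W = r * (2 * finrank F W) := by ring
      _ ≤ r * n := Nat.mul_le_mul_left r h
      _ ≤ (r + 1) * n := Nat.mul_le_mul_right n (Nat.le_succ r)
  push Not at hcase0
  obtain ⟨x₀, hx₀, hx₀s⟩ : ∃ x ∈ N, ⁅g, x⁆ ∉ scalars (Fin n) F := by
    by_contra h
    push Not at h
    exact hns (scalar_of_commutes R hirr fun x hx => commutatorElement_eq_one_iff_mul_comm.1
      (hcase0 x (Subgroup.mem_sup_left hx) (h x (Subgroup.mem_sup_left hx))))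
  refine ⟨?_, fun hodd hrϖ => ?_⟩
  · have h := two_mul_le_add_inf W (actEquiv x₀)
    have hle : W ⊓ W.map (actEquiv x₀).toLinearMap ≤ (act ⁅g, x₀⁆).eigenspace 1 := fun v hv => by
      rw [Module.End.mem_eigenspace_iff, one_smul]; exact (hfix x₀ v hv).2
    have h2 := Submodule.finrank_mono hle
    have h3 := eigen_le R hr hZ hext hirr (hD x₀ hx₀) hx₀s
    rw [hdim] at h
    calc 2 * r * finrank F W = r * (2 * finrank F W) := by ring
      _ ≤ r * (n + finrank F ↥((act ⁅g, x₀⁆).eigenspace 1)) := Nat.mul_le_mul_left r (by omega)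
      _ ≤ (r + 1) * n := by rw [Nat.mul_add, Nat.succ_mul]; omega
  -- non-commuting conjugate commutators
  by_cases hB : ∃ x ∈ N, ⁅⁅g, x⁆, g * ⁅g, x⁆ * g⁻¹⁆ ≠ 1
  · obtain ⟨x, hx, hne⟩ := hB
    have h := two_mul_le_add_inf W (actEquiv x)
    have hb : W ⊓ W.map (actEquiv x).toLinearMap = ⊥ := by
      rw [eq_bot_iff]
      intro v hv
      obtain ⟨h0, h1⟩ := hfix x v hv
      refine eq_zero_of_fixed (comm_scalar R hext hirr (hD x hx) (hconj _ (hD x hx))) hne h1 ?_
      have h0' : act g⁻¹ v = c⁻¹ • v := by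
        rw [eq_inv_smul_iff₀ hc, ← map_smul, ← h0, ← act_mul_apply, inv_mul_cancel, map_one]; rfl
      rw [act_mul_apply, act_mul_apply, h0', map_smul, h1, map_smul, h0, inv_smul_smul₀ hc]
    rw [hb, finrank_bot, add_zero, hdim] at h
    exact h
  push Not at hB
  -- the quotient by scalars
  haveI hSn : (scalars (Fin n) F).Normal := ⟨fun s hs g => by rw [← scalar_central hs g, mul_inv_cancel_right]; exact hs⟩
  let π := QuotientGroup.mk' (scalars (Fin n) F)
  let M := N.map π
  have hMcomm : ∀ a b : M, a * b = b * a := by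
    rintro ⟨_, a, ha, rfl⟩ ⟨_, b, hb, rfl⟩
    refine Subtype.ext (commutatorElement_eq_one_iff_mul_comm.1 ?_)
    show ⁅π a, π b⁆ = 1
    rw [← map_commutatorElement]
    exact (QuotientGroup.eq_one_iff _).2 (comm_scalar R hext hirr ha hb)
  letI : CommGroup M := { (inferInstance : Group M) with mul_comm := hMcomm }
  let τ : M →* M :=
    { toFun := fun a => ⟨π g * (a : _) * (π g)⁻¹, by
        obtain ⟨x, hx, hxa⟩ := a.2
        exact ⟨g * x * g⁻¹, hconj x hx, by rw [← hxa, map_mul, map_mul, map_inv]⟩⟩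
      map_one' := Subtype.ext (by simp)
      map_mul' := fun a b => Subtype.ext (by simp [mul_assoc]) }
  let mk : ∀ x, x ∈ N → M := fun x hx => ⟨π x, x, hx, rfl⟩
  have hτ : ∀ x (hx : x ∈ N), τ (mk x hx) = mk (g * x * g⁻¹) (hconj x hx) := fun x hx =>
    Subtype.ext (show π g * π x * (π g)⁻¹ = π (g * x * g⁻¹) by rw [map_mul, map_mul, map_inv])
  have hdiv : ∀ x (hx : x ∈ N), τ (mk x hx) / mk x hx = mk ⁅g, x⁆ (hD x hx) := fun x hx => by
    rw [hτ x hx, div_eq_mul_inv]
    exact Subtype.ext (show π (g * x * g⁻¹) * (π x)⁻¹ = π ⁅g, x⁆ by rw [← map_inv, ← map_mul, commutatorElement_def])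
  have hiter : ∀ a : M, ∀ i : ℕ, ((τ^[i] a : M) : GLn ⧸ scalars (Fin n) F) = π g ^ i * a * (π g ^ i)⁻¹ := by
    intro a i
    induction i with
    | zero => simp
    | succ i ih =>
      rw [Function.iterate_succ_apply']
      show π g * ((τ^[i] a : M) : GLn ⧸ scalars (Fin n) F) * (π g)⁻¹ = _
      rw [ih, pow_succ']; group
  have hexpM : ∀ a : M, a ^ r = 1 := by
    rintro ⟨_, x, hx, rfl⟩
    refine Subtype.ext ?_
    show π x ^ r = 1
    rw [← map_pow]
    refine (QuotientGroup.eq_one_iff _).2 (scalar_of_commutes R hirr fun y hy => ?_)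
    have hy' : y ∈ N := Subgroup.mem_sup_left hy
    have key : ∀ k, ⁅x ^ k, y⁆ = ⁅x, y⁆ ^ k := by
      intro k
      induction k with
      | zero => simp
      | succ k ih =>
        rw [pow_succ x, commutator_mul_left (comm_scalar R hext hirr hx hy'), ih, ← pow_succ']
    exact commutatorElement_eq_one_iff_mul_comm.1 (by rw [key, comm_pow R hZ hext hirr hx hy'])
  have hkey : ∀ a : M, τ (τ (τ (τ a / a)) / (τ a / a)) = τ (τ (τ a / a)) / (τ a / a) := by
    rintro ⟨_, x, hx, rfl⟩
    show τ (τ (τ (τ (mk x hx) / mk x hx)) / (τ (mk x hx) / mk x hx)) = τ (τ (τ (mk x hx) / mk x hx)) / (τ (mk x hx) / mk x hx)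
    rw [hdiv x hx, hτ _ (hD x hx), hτ _ (hconj _ (hD x hx))]
    set z := ⁅g, x⁆ with hzdef
    have hz : z ∈ N := hD x hx
    set w := g * (g * z * g⁻¹) * g⁻¹ * z⁻¹ with hwdef
    have hw : w ∈ N := mul_mem (hconj _ (hconj _ hz)) (inv_mem hz)
    have e1 : mk (g * (g * z * g⁻¹) * g⁻¹) (hconj _ (hconj _ hz)) / mk z hz = mk w hw := by
      rw [div_eq_mul_inv]
      exact Subtype.ext (show π _ * (π z)⁻¹ = π w by rw [← map_inv, ← map_mul])
    rw [e1, ← div_eq_one, hdiv w hw]
    refine Subtype.ext ((QuotientGroup.eq_one_iff _).2 (scalar_of_commutes R hirr ?_))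
    -- every commutator commutes with `w`
    have pol : ∀ y ∈ N, ⁅⁅g, y⁆, g * z * g⁻¹⁆ * ⁅z, g * ⁅g, y⁆ * g⁻¹⁆ = 1 := by
      intro y hy
      have hy1 := hD y hy
      have h := hB _ (mul_mem hy hx)
      have e : ⁅g, y * x⁆ = ⁅g, y⁆ * (y * ⁅g, x⁆ * y⁻¹ * ⁅g, x⁆⁻¹ * ⁅g, x⁆) := by
        simp only [commutatorElement_def]; group
      have hs : ⁅y, ⁅g, x⁆⁆ ∈ scalars (Fin n) F := comm_scalar R hext hirr hy hz
      rw [e, show y * ⁅g, x⁆ * y⁻¹ * ⁅g, x⁆⁻¹ = ⁅y, ⁅g, x⁆⁆ from (commutatorElement_def _ _).symm, ← hzdef,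
        scalar_central hs z, ← mul_assoc] at h
      set s := ⁅y, z⁆
      have hz' := hconj _ hz
      have hy1' := hconj _ hy1
      have e2 : ⁅⁅g, y⁆ * z * s, g * (⁅g, y⁆ * z * s) * g⁻¹⁆ = ⁅⁅g, y⁆ * z, (g * ⁅g, y⁆ * g⁻¹) * (g * z * g⁻¹)⁆ := by
        rw [show g * (⁅g, y⁆ * z * s) * g⁻¹ = g * ⁅g, y⁆ * g⁻¹ * (g * z * g⁻¹) * (g * s * g⁻¹) by group,
          show g * s * g⁻¹ = s by rw [← scalar_central hs g, mul_inv_cancel_right]]
        set A := ⁅g, y⁆ * z
        set B := g * ⁅g, y⁆ * g⁻¹ * (g * z * g⁻¹)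
        simp only [commutatorElement_def, mul_inv_rev]
        rw [show A * s * (B * s) * (s⁻¹ * A⁻¹) * (s⁻¹ * B⁻¹) = A * (s * B) * (A⁻¹ * s⁻¹) * B⁻¹ by group,
          scalar_central hs B, ← scalar_central (inv_mem hs) A⁻¹]
        group
      rw [e2, commutator_mul_left (comm_scalar R hext hirr hz (mul_mem hy1' hz')),
        commutator_mul_right (comm_scalar R hext hirr hy1 hz'),
        commutator_mul_right (comm_scalar R hext hirr hz hz'), hB x hx, mul_one, hB y hy, one_mul] at h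
      rw [← scalar_central (comm_scalar R hext hirr hz hy1') _]
      exact h
    have hwall : ∀ y ∈ N, ⁅⁅g, y⁆, w⁆ = 1 := by
      intro y hy
      have hyg : g⁻¹ * y * g ∈ N := (Subgroup.mem_normalizer_iff''.1 hg y).1 hy
      set v := ⁅g, g⁻¹ * y * g⁆ with hvdef
      have hv : v ∈ N := hD _ hyg
      have hcy : ⁅g, y⁆ = g * v * g⁻¹ := by rw [hvdef]; simp only [commutatorElement_def]; group
      have h1 : ⁅v, g * z * g⁻¹⁆ = ⁅g * v * g⁻¹, z⁆ := by
        rw [← commutatorElement_inv z]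
        exact eq_inv_of_mul_eq_one_left (pol _ hyg)
      have hs := comm_scalar R hext hirr hv (hconj _ hz)
      have h2 : ⁅g * v * g⁻¹, g * (g * z * g⁻¹) * g⁻¹⁆ = ⁅v, g * z * g⁻¹⁆ := by
        have e : g * ⁅v, g * z * g⁻¹⁆ * g⁻¹ = ⁅g * v * g⁻¹, g * (g * z * g⁻¹) * g⁻¹⁆ := by
          simp only [commutatorElement_def]; group
        rw [← e, ← scalar_central hs g, mul_inv_cancel_right]
      have hsz := comm_scalar R hext hirr (hconj _ hv) (inv_mem hz)
      rw [hcy, hwdef, commutator_mul_right hsz, h2, h1,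
        ← commutator_mul_right hsz, mul_inv_cancel, commutatorElement_one_right]
    -- hence `⁅g, w⁆` commutes with `R`
    intro y hy
    refine commutatorElement_eq_one_iff_mul_comm.1 ?_
    have hy' : y ∈ N := Subgroup.mem_sup_left hy
    have hs := comm_scalar R hext hirr hy' hw
    -- transport back
    have hgyg : g * (g⁻¹ * y * g) * g⁻¹ = y := by group
    have h4 := hwall (g⁻¹ * y * g) ((Subgroup.mem_normalizer_iff''.1 hg y).1 hy')
    have hy2 : g⁻¹ * y * g ∈ N := (Subgroup.mem_normalizer_iff''.1 hg y).1 hy'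
    rw [commutatorElement_def g (g⁻¹ * y * g), hgyg,
      commutator_mul_left (comm_scalar R hext hirr (inv_mem hy2) hw)] at h4
    have h5 : ⁅(g⁻¹ * y * g)⁻¹, w⁆ * ⁅g⁻¹ * y * g, w⁆ = 1 := by
      rw [← commutator_mul_left (comm_scalar R hext hirr (inv_mem hy2) hw), mul_inv_cancel, commutatorElement_one_left]
    have h6 : ⁅y, w⁆ = ⁅g⁻¹ * y * g, w⁆ := by
      rw [eq_inv_of_mul_eq_one_left h5, inv_mul_eq_one] at h4
      exact h4.symm
    have h7 : ⁅y, g * w * g⁻¹⁆ = ⁅y, w⁆ := by
      have e : g * ⁅g⁻¹ * y * g, w⁆ * g⁻¹ = ⁅y, g * w * g⁻¹⁆ := by simp only [commutatorElement_def]; group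
      rw [← e, ← h6, ← scalar_central hs g, mul_inv_cancel_right]
    rw [show g * w * g⁻¹ = ⁅g, w⁆ * w by rw [commutatorElement_def, inv_mul_cancel_right],
      commutator_mul_right hs, mul_eq_right] at h7
    rw [← commutatorElement_inv, h7, inv_one]
  rcases chain τ hr hϖ hodd hexpM (fun a => Subtype.ext (by rw [hiter, ← map_pow, ← hord, pow_orderOf_eq_one]; simp)) hkey with
    hid | ⟨hrw, a, ha, haa⟩
  · refine absurd ((QuotientGroup.eq_one_iff _).1 ?_) hx₀s
    have h := hdiv x₀ hx₀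
    rw [hid, div_self'] at h
    exact (congrArg Subtype.val h).symm
  · have hr5 : 5 ≤ r := hrϖ.resolve_left (fun h => h hrw)
    obtain ⟨_, x, hx, rfl⟩ := a
    change τ (mk x hx) ≠ mk x hx at ha
    change τ (τ (mk x hx) / mk x hx) = τ (mk x hx) / mk x hx at haa
    rw [hdiv x hx, ← div_eq_one, hdiv _ (hD x hx)] at haa
    rw [Ne, ← div_eq_one, hdiv x hx] at ha
    set h := ⁅g, x⁆ with hhdef
    have hh : h ∈ N := hD x hx
    have hhs : h ∉ scalars (Fin n) F := fun hm => ha (Subtype.ext ((QuotientGroup.eq_one_iff _).2 hm))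
    have hgh : g * h = h * g := commutatorElement_eq_one_iff_mul_comm.1
      (hcase0 h hh ((QuotientGroup.eq_one_iff _).1 (congrArg Subtype.val haa)))
    -- write `h` as a scalar times an element of order `r`
    have hh' := hh
    rw [hNdef, ← SetLike.mem_coe, Subgroup.mul_normal, Set.mem_mul] at hh'
    obtain ⟨y, hy, s, hs, hys⟩ := hh'
    obtain ⟨lam, hlam, hlamv⟩ := act_scalar hs
    obtain ⟨x', hx', hne⟩ := exists_not_commute R hirr hh hhs
    have hyr : y ^ r = 1 := by
      have he : Monoid.exponent R = r := hexp.resolve_right fun e4 => by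
        haveI := Fact.mk hr
        obtain ⟨k, hk⟩ := IsPGroup.iff_card.1 hR
        have h4 : 4 ∣ r ^ k := by rw [← hk, ← e4]; exact Group.exponent_dvd_nat_card
        have := (Nat.prime_dvd_prime_iff_eq Nat.prime_two hr).1 (Nat.prime_two.dvd_of_dvd_pow ((show 2 ∣ 4 by norm_num).trans h4))
        omega
      have := Monoid.pow_exponent_eq_one (⟨y, hy⟩ : R)
      rw [he] at this
      exact congrArg Subtype.val this
    have hhy : act h = lam • act y := LinearMap.ext fun v => by
      rw [← hys, act_mul_apply, hlamv, map_smul, LinearMap.smul_apply]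
    have hyx : ∀ z ∈ N, ⁅h, z⁆ = ⁅y, z⁆ := fun z hz => by
      rw [← hys, commutator_mul_left (comm_scalar R hext hirr (Subgroup.mem_sup_right hs) hz),
        commutatorElement_eq_one_iff_mul_comm.2 (scalar_central hs z), one_mul]
    have hyN : y ∈ N := Subgroup.mem_sup_left hy
    have hyop : act y ^ r = 1 := by rw [← map_pow, hyr, map_one]
    have hgh' : ∀ v, act g (act h v) = act h (act g v) := fun v => by
      rw [← act_mul_apply, hgh, act_mul_apply]
    have hgx : ∀ v, act g (act x v) = act h (act x (act g v)) := fun v => by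
      rw [← act_mul_apply, ← act_mul_apply, ← act_mul_apply, show h * x * g = g * x by
        rw [hhdef, commutatorElement_def]; group]
    have hrodd : Odd r := hrw ▸ hodd
    by_cases hxh : ⁅h, x⁆ = 1
    · have hx'N : x' ∈ N := Subgroup.mem_sup_left hx'
      rw [hyx x' hx'N] at hne
      obtain ⟨l, hlr, hlv⟩ := exists_root R hr hZ hext hirr hyN hx'N hne
      have key := bound_stable (act g) (act h) (actEquiv x) (actEquiv x') hlr (by omega) hr (act y) hyop hlam hhy
        (fun v => hlv v) hgh' (fun v => by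
          show act h (act x v) = act x (act h v)
          rw [← act_mul_apply, commutatorElement_eq_one_iff_mul_comm.1 hxh, act_mul_apply])
        hgx (fun v => by
          obtain ⟨z, hz, hzv⟩ : ∃ z, z ∈ scalars (Fin n) F ∧ x ^ r = z := ⟨x ^ r, by
            have := hexpM (mk x hx)
            exact (QuotientGroup.eq_one_iff _).1 ((map_pow π x r).trans (congrArg Subtype.val this)), rfl⟩
          have e : (actEquiv x).toLinearMap ^ r = act z := by rw [← hzv, map_pow]; rfl
          rw [e, ← act_mul_apply, ← scalar_central hz g, act_mul_apply]) hc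
      rwa [hdim] at key
    · rw [hyx x hx] at hxh
      obtain ⟨l, hlr, hlv⟩ := exists_root R hr hZ hext hirr hyN hx hxh
      have key := bound_commuting (act g) (act h) (actEquiv x) hlr hrodd hr5 hlam (act y) hyop hhy
        (fun v => hlv v) hgh' hgx hc
      rwa [hdim] at key

end ExtraEigen5877
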